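import Mathlib.Algebra.Polynomial.Module.Basic
import Groth.Agent.Lib.GrTilde.NegTwist
import Groth.Agent.Lib.GrTilde.Stalk

/-!
# The graded module of families of twisted sections of a module on Proj
-/

universe u

set_option backward.isDefEq.respectTransparency false

open AlgebraicGeometry CategoryTheory TopologicalSpace Opposite
open GrothLib.InvExt (mres)
open GrothLib.Ample (res res_res)
open GrothLib.Ample.ProjTwist (ev fracO ev_fracO ev_ext ev_res ev_mul ev_one)

noncomputable section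

namespace GrothLib.GrRep

variable {R A : Type u} [CommRing R] [CommRing A] [Algebra R A] (𝒜 : ℕ → Submodule R A) [GradedAlgebra 𝒜]

/-- A finite cover of `Proj` by degree one elements. -/
structure Cov where
  ι : Type u
  fin : Finite ι
  x : ι → A
  hx : ∀ i, x i ∈ 𝒜 1
  hcov : ⨆ i, Proj.basicOpen 𝒜 (x i) = ⊤

variable {𝒜} (K : Cov 𝒜)

namespace Cov

/-- The cocycle of ratios. -/
abbrev c : Ample.Cocycle (Proj 𝒜) := Ample.ProjTwist.cocycle 𝒜 K.x K.hx K.hcov

/-- The chart `D(x i)`. -/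
abbrev D (i : K.ι) : (Proj 𝒜).Opens := Proj.basicOpen 𝒜 (K.x i)

/-- The element `a / x i ^ k` on a piece of the chart. -/
def el {k : ℕ} (a : A) (ha : a ∈ 𝒜 k) (i : K.ι) {V : (Proj 𝒜).Opens} (h : V ≤ K.D i) : Γ(Proj 𝒜, V) :=
  fracO a (K.x i ^ k) ha (Ample.ProjTwist.pow_mem 𝒜 (K.hx i) k)
    fun y => Ample.ProjTwist.pow_notMem 𝒜 k (h y.2)

theorem ev_el {k : ℕ} (a : A) (ha : a ∈ 𝒜 k) (i : K.ι) {V : (Proj 𝒜).Opens} (h : V ≤ K.D i) (y : V) :
    ev y (K.el a ha i h) =
      Localization.mk a ⟨K.x i ^ k, Ample.ProjTwist.pow_notMem 𝒜 k (h y.2)⟩ :=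
  ev_fracO _ _ _ _ _ _

theorem res_el {k : ℕ} (a : A) (ha : a ∈ 𝒜 k) (i : K.ι) {V W : (Proj 𝒜).Opens} (h : V ≤ K.D i) (hW : W ≤ V) :
    res hW (K.el a ha i h) = K.el a ha i (hW.trans h) :=
  ev_ext fun y => by rw [ev_res, ev_el, ev_el]

theorem el_mul {k l : ℕ} {a b : A} (ha : a ∈ 𝒜 k) (hb : b ∈ 𝒜 l) (i : K.ι) {V : (Proj 𝒜).Opens}
    (h : V ≤ K.D i) :
    K.el (a * b) (SetLike.mul_mem_graded ha hb) i h = K.el a ha i h * K.el b hb i h :=
  ev_ext fun y => by
    rw [ev_mul, ev_el, ev_el, ev_el, Localization.mk_mul]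
    congr 1
    exact Subtype.ext (pow_add _ _ _)

theorem el_one (i : K.ι) {V : (Proj 𝒜).Opens} (h : V ≤ K.D i) :
    K.el (1 : A) (SetLike.GradedOne.one_mem) i h = 1 :=
  ev_ext fun y => by
    rw [ev_el, ev_one, ← Localization.mk_one]
    congr 1
    exact Subtype.ext (pow_zero _)

theorem el_add {k : ℕ} {a b : A} (ha : a ∈ 𝒜 k) (hb : b ∈ 𝒜 k) (i : K.ι) {V : (Proj 𝒜).Opens}
    (h : V ≤ K.D i) :
    K.el (a + b) (add_mem ha hb) i h = K.el a ha i h + K.el b hb i h :=
  ev_ext fun y => by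
    rw [show ev y (K.el a ha i h + K.el b hb i h) = ev y (K.el a ha i h) + ev y (K.el b hb i h) from
      HomogeneousLocalization.val_add _ _, ev_el, ev_el, ev_el, Localization.add_mk_self]

theorem el_change {k : ℕ} {a : A} (ha : a ∈ 𝒜 k) (i j : K.ι) {V : (Proj 𝒜).Opens}
    (hi : V ≤ K.D i) (hj : V ≤ K.D j) :
    K.el a ha i hi = K.c.G i j hi hj ^ k * K.el a ha j hj :=
  ev_ext fun y => by
    rw [ev_mul, Ample.ProjTwist.ev_pow, ev_el, ev_el]
    erw [Ample.ProjTwist.ev_G]
    rw [Localization.mk_pow, Localization.mk_mul, Localization.mk_eq_mk_iff, Localization.r_iff_exists]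
    exact ⟨1, by simp only [OneMemClass.coe_one, one_mul, Submonoid.coe_mul, SubmonoidClass.coe_pow]; ring⟩

theorem el_pow_self (n : ℕ) (i j : K.ι) {V : (Proj 𝒜).Opens} (hi : V ≤ K.D i) (hj : V ≤ K.D j) :
    K.el (K.x j ^ n) (Ample.ProjTwist.pow_mem 𝒜 (K.hx j) n) i hi = K.c.G i j hi hj ^ n :=
  ev_ext fun y => by
    rw [Ample.ProjTwist.ev_pow, ev_el]
    erw [Ample.ProjTwist.ev_G]
    rw [Localization.mk_pow]
    rfl

theorem isUnit_el {k : ℕ} {a : A} (ha : a ∈ 𝒜 k) (i : K.ι) {V : (Proj 𝒜).Opens} (h : V ≤ K.D i)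
    (nin : ∀ y : V, a ∉ y.1.asHomogeneousIdeal) : IsUnit (K.el a ha i h) :=
  IsUnit.of_mul_eq_one (fracO (K.x i ^ k) a (Ample.ProjTwist.pow_mem 𝒜 (K.hx i) k) ha nin) <|
    ev_ext fun y => by
      rw [ev_mul, ev_el, ev_fracO, ev_one, Localization.mk_mul, ← Localization.mk_one,
        Localization.mk_eq_mk_iff, Localization.r_iff_exists]
      exact ⟨1, by simp only [OneMemClass.coe_one, one_mul, Submonoid.coe_mul]; ring⟩

theorem basicOpen_el {k : ℕ} {a : A} (ha : a ∈ 𝒜 k) (i : K.ι) :
    (Proj 𝒜).basicOpen (K.el a ha i (le_refl (K.D i))) = Proj.basicOpen 𝒜 (K.x i * a) :=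
  GrTilde.le_basicOpen_of_ev (e := 1) (f := K.x i) (k := k) _ (by rwa [smul_eq_mul, mul_one]) (K.hx i)
    fun y => K.ev_el a ha i le_rfl y

/-! ### The ambient module -/

variable (F : (Proj 𝒜).Modules)

/-- Coefficient ring of the charts. -/
abbrev Ch : Type u := ∀ i, Γ(Proj 𝒜, K.D i)

/-- Families of sections over the charts. -/
abbrev P : Type u := ∀ i, Γ(F, K.D i)

/-- The value of a homogeneous element on all charts. -/
def elv (k : ℕ) : 𝒜 k →+ Polynomial K.Ch where
  toFun a := Polynomial.monomial k fun i => K.el a.1 a.2 i le_rfl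
  map_zero' := by
    have : (fun i => K.el (0 : A) (zero_mem (𝒜 k)) i (le_refl (K.D i))) = (0 : K.Ch) := funext fun i =>
      ev_ext fun y => by
        rw [ev_el, Localization.mk_zero]
        exact (map_zero (algebraMap (Twist.A0 𝒜 y.1) (Twist.Loc 𝒜 y.1))).symm
    exact (congrArg (Polynomial.monomial k) this).trans (map_zero _)
  map_add' a b := by
    rw [← map_add]
    exact congrArg (Polynomial.monomial k) (funext fun i => K.el_add a.2 b.2 i le_rfl)

/-- The ring map `A → ∏ᵢ Γ(D i)[t]`. -/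
def φ : A →+* Polynomial K.Ch :=
  (DirectSum.toSemiring K.elv
    (by
      show Polynomial.monomial 0 (fun i => K.el (1 : A) _ i le_rfl) = 1
      rw [show (fun i => K.el (1 : A) SetLike.GradedOne.one_mem i (le_refl (K.D i))) = (1 : K.Ch) from
        funext fun i => K.el_one i le_rfl]
      rfl)
    (fun {k l} a b => by
      show Polynomial.monomial (k + l) (fun i => K.el (a.1 * b.1) _ i le_rfl) = _ * _
      refine Eq.trans ?_ (Polynomial.monomial_mul_monomial k l _ _).symm
      exact congrArg (Polynomial.monomial (k + l)) (funext fun i => K.el_mul a.2 b.2 i le_rfl))).comp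
    (DirectSum.decomposeRingEquiv 𝒜).toRingHom

theorem φ_apply {k : ℕ} {a : A} (ha : a ∈ 𝒜 k) :
    K.φ a = Polynomial.monomial k (fun i => K.el a ha i le_rfl) := by
  rw [φ, RingHom.comp_apply]
  show DirectSum.toSemiring K.elv ?_ ?_ (DirectSum.decompose 𝒜 a) = _
  rw [DirectSum.decompose_of_mem _ ha, DirectSum.toSemiring_of]
  rfl

/-- Polynomials with coefficients in families of sections over the charts. -/
def Big : Type u := PolynomialModule K.Ch (K.P F)

instance : AddCommGroup (K.Big F) := inferInstanceAs (AddCommGroup (PolynomialModule K.Ch (K.P F)))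

instance modA : Module A (K.Big F) :=
  letI : Module (Polynomial K.Ch) (K.Big F) :=
    inferInstanceAs (Module (Polynomial K.Ch) (PolynomialModule K.Ch (K.P F)))
  Module.compHom _ K.φ

instance modR : Module R (K.Big F) := Module.compHom _ (algebraMap R A)

instance : IsScalarTower R A (K.Big F) := IsScalarTower.of_algebraMap_smul fun _ _ => rfl

/-- A family in a single degree. -/
def sgl (n : ℕ) (α : K.P F) : K.Big F := PolynomialModule.single K.Ch n α

/-- The family of degree `n` in an element. -/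
def co (n : ℕ) : K.Big F →+ K.P F where
  toFun m := (show PolynomialModule K.Ch (K.P F) from m).coeff n
  map_zero' := rfl
  map_add' _ _ := rfl

variable {F}

theorem co_sgl (n : ℕ) (α : K.P F) : K.co F n (K.sgl F n α) = α := by
  show (PolynomialModule.single K.Ch n α).coeff n = α
  rw [PolynomialModule.coeff_single, Finsupp.single_eq_same]

theorem co_sgl_of_ne {n l : ℕ} (h : n ≠ l) (α : K.P F) : K.co F l (K.sgl F n α) = 0 := by
  show (PolynomialModule.single K.Ch n α).coeff l = 0
  rw [PolynomialModule.coeff_single, Finsupp.single_eq_of_ne h.symm]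

theorem sgl_zero (n : ℕ) : K.sgl F n 0 = 0 := PolynomialModule.single_zero n

theorem sgl_add (n : ℕ) (α β : K.P F) : K.sgl F n (α + β) = K.sgl F n α + K.sgl F n β :=
  PolynomialModule.single_add n α β

theorem big_ext {m m' : K.Big F} (h : ∀ n, K.co F n m = K.co F n m') : m = m' :=
  PolynomialModule.coeff_injective (Finsupp.ext h)

/-- Multiplication of a family by a homogeneous element. -/
def pmul {k : ℕ} (a : A) (ha : a ∈ 𝒜 k) (α : K.P F) : K.P F :=
  fun i => K.el a ha i (le_refl (K.D i)) • α i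

theorem smul_sgl {k : ℕ} {a : A} (ha : a ∈ 𝒜 k) (n : ℕ) (α : K.P F) :
    a • K.sgl F n α = K.sgl F (k + n) (K.pmul a ha α) := by
  show K.φ a • PolynomialModule.single K.Ch n α = _
  rw [K.φ_apply ha, PolynomialModule.monomial_smul_single]
  rfl

/-! ### Compatible families and graded submodules -/

variable (F) in
/-- Compatibility for the `n`-th twist. -/
def IsFam (n : ℕ) (α : K.P F) : Prop :=
  ∀ (i j : K.ι) (W : (Proj 𝒜).Opens) (hi : W ≤ K.D i) (hj : W ≤ K.D j),
    mres F hi (α i) = K.c.G i j hi hj ^ n • mres F hj (α j)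

theorem isFam_zero (n : ℕ) : K.IsFam F n 0 := fun i j W hi hj => by simp [mres]

theorem isFam_add {n : ℕ} {α β : K.P F} (ha : K.IsFam F n α) (hb : K.IsFam F n β) : K.IsFam F n (α + β) := by
  intro i j W hi hj
  have h1 := ha i j W hi hj
  have h2 := hb i j W hi hj
  simp only [mres, Pi.add_apply, map_add, smul_add] at h1 h2 ⊢
  rw [h1, h2]

theorem isFam_pmul {k n : ℕ} {a : A} (ha : a ∈ 𝒜 k) {α : K.P F} (hα : K.IsFam F n α) :
    K.IsFam F (k + n) (K.pmul a ha α) := fun i j W hi hj => by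
  show mres F hi (_ • _) = _ • mres F hj (_ • _)
  rw [Ample.mres_smul', Ample.mres_smul', K.res_el, K.res_el, hα i j W hi hj, K.el_change ha i j hi hj,
    smul_smul, smul_smul, pow_add]
  congr 1
  ring

/-- An `A`-submodule generated by homogeneous compatible families. -/
structure GrSub where
  N : Submodule A (K.Big F)
  fam : ∀ m ∈ N, ∀ n, K.IsFam F n (K.co F n m)
  hom : ∀ m ∈ N, ∀ n, K.sgl F n (K.co F n m) ∈ N

variable (F) in
/-- The properties of elements of a graded submodule of compatible families. -/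
def Good (N : Submodule A (K.Big F)) (m : K.Big F) : Prop :=
  ∀ n, K.IsFam F n (K.co F n m) ∧ K.sgl F n (K.co F n m) ∈ N

theorem good_zero (N : Submodule A (K.Big F)) : K.Good F N 0 := fun n => by
  rw [map_zero, K.sgl_zero]; exact ⟨K.isFam_zero n, zero_mem _⟩

theorem good_add {N : Submodule A (K.Big F)} {m m' : K.Big F} (h : K.Good F N m) (h' : K.Good F N m') :
    K.Good F N (m + m') := fun n => by
  rw [map_add, K.sgl_add]; exact ⟨K.isFam_add (h n).1 (h' n).1, add_mem (h n).2 (h' n).2⟩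

theorem sum_sgl (m : K.Big F) :
    ∃ t : Finset ℕ, m = ∑ n ∈ t, K.sgl F n (K.co F n m) := by
  refine ⟨(show PolynomialModule K.Ch (K.P F) from m).coeff.support, K.big_ext fun l => ?_⟩
  rw [map_sum]
  by_cases hl : l ∈ (show PolynomialModule K.Ch (K.P F) from m).coeff.support
  · rw [Finset.sum_eq_single l (fun n _ hn => K.co_sgl_of_ne hn _) fun h => absurd hl h, K.co_sgl]
  · rw [Finset.sum_eq_zero fun n hn => K.co_sgl_of_ne (fun e => hl (by rw [← e]; exact hn)) _]
    exact Finsupp.notMem_support_iff.mp hl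

theorem good_sgl {N : Submodule A (K.Big F)} {n : ℕ} {α : K.P F} (hα : K.IsFam F n α)
    (hN : K.sgl F n α ∈ N) : K.Good F N (K.sgl F n α) := fun l => by
  by_cases h : n = l
  · subst h; rw [K.co_sgl]; exact ⟨hα, hN⟩
  · rw [K.co_sgl_of_ne h, K.sgl_zero]; exact ⟨K.isFam_zero l, zero_mem _⟩

theorem good_smul {N : Submodule A (K.Big F)} (a : A) {m : K.Big F} (h : K.Good F N m) :
    K.Good F N (a • m) := by
  classical
  rw [← DirectSum.sum_support_decompose 𝒜 a, Finset.sum_smul]
  refine Finset.sum_induction _ (K.Good F N) (fun _ _ => K.good_add) (K.good_zero N) fun k _ => ?_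
  obtain ⟨t, ht⟩ := K.sum_sgl m
  rw [ht, Finset.smul_sum]
  refine Finset.sum_induction _ (K.Good F N) (fun _ _ => K.good_add) (K.good_zero N) fun n _ => ?_
  rw [K.smul_sgl (SetLike.coe_mem _) n]
  refine K.good_sgl (K.isFam_pmul _ (h n).1) ?_
  rw [← K.smul_sgl]
  exact N.smul_mem _ (h n).2

variable (F) in
/-- The graded submodule generated by a set of compatible families with degrees. -/
def spanOf (S : Set (ℕ × K.P F)) (hS : ∀ p ∈ S, K.IsFam F p.1 p.2) : K.GrSub (F := F) :=
  have key : ∀ m ∈ Submodule.span A ((fun p : ℕ × K.P F => K.sgl F p.1 p.2) '' S),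
      K.Good F (Submodule.span A ((fun p : ℕ × K.P F => K.sgl F p.1 p.2) '' S)) m := fun m hm => by
    induction hm using Submodule.span_induction with
    | mem z hz =>
      obtain ⟨p, hp, rfl⟩ := hz
      exact K.good_sgl (hS p hp) (Submodule.subset_span ⟨p, hp, rfl⟩)
    | zero => exact K.good_zero _
    | add _ _ _ _ h h' => exact K.good_add h h'
    | smul a _ _ h => exact K.good_smul a h
  ⟨_, fun m hm n => (key m hm n).1, fun m hm n => (key m hm n).2⟩

theorem sgl_mem_spanOf {S : Set (ℕ × K.P F)} (hS : ∀ p ∈ S, K.IsFam F p.1 p.2) {p : ℕ × K.P F} (hp : p ∈ S) :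
    K.sgl F p.1 p.2 ∈ (K.spanOf F S hS).N :=
  Submodule.subset_span ⟨p, hp, rfl⟩

theorem finite_spanOf {S : Set (ℕ × K.P F)} (hS : ∀ p ∈ S, K.IsFam F p.1 p.2) (h : S.Finite) :
    Module.Finite A (K.spanOf F S hS).N :=
  Module.Finite.iff_fg.mpr (Submodule.fg_span (h.image _))

variable (G : K.GrSub (F := F))

/-- The degree `n` part. -/
def piece (n : ℕ) : Submodule R G.N where
  carrier := {m | K.sgl F n (K.co F n m.1) = m.1}
  zero_mem' := by show _ = _; rw [Submodule.coe_zero, map_zero, K.sgl_zero]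
  add_mem' {a b} ha hb := by
    show _ = _
    rw [Submodule.coe_add, map_add, K.sgl_add, ha, hb]
  smul_mem' r m hm := by
    show _ = _
    have e : ((r • m : G.N) : K.Big F) = algebraMap R A r • m.1 := rfl
    have hr : algebraMap R A r ∈ 𝒜 0 := SetLike.algebraMap_mem_graded 𝒜 r
    rw [e, ← show K.sgl F n (K.co F n m.1) = m.1 from hm, K.smul_sgl hr]
    generalize K.pmul (algebraMap R A r) hr (K.co F n m.1) = β
    rw [zero_add, K.co_sgl]

theorem mem_piece {n : ℕ} {m : G.N} (hm : m ∈ K.piece G n) : m.1 = K.sgl F n (K.co F n m.1) := Eq.symm hm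

/-- An element of the degree `n` part from a family. -/
def mkEl (n : ℕ) (α : K.P F) (h : K.sgl F n α ∈ G.N) : G.N := ⟨K.sgl F n α, h⟩

theorem mkEl_mem (n : ℕ) (α : K.P F) (h : K.sgl F n α ∈ G.N) : K.mkEl G n α h ∈ K.piece G n := by
  show K.sgl F n (K.co F n (K.sgl F n α)) = K.sgl F n α
  rw [K.co_sgl]

instance gradedSMul : SetLike.GradedSMul 𝒜 (K.piece G) where
  smul_mem {k n a m} ha hm := by
    show _ = ((a • m : G.N) : K.Big F)
    rw [Submodule.coe_smul, K.mem_piece G hm, K.smul_sgl ha, vadd_eq_add, K.co_sgl]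

theorem sgl_co_mem (n : ℕ) (m : G.N) : K.mkEl G n (K.co F n m.1) (G.hom _ m.2 n) ∈ K.piece G n :=
  K.mkEl_mem G _ _ _

/-- Taking the degree `n` part. -/
def decomp (m : G.N) : DirectSum ℕ fun n => K.piece G n :=
  ∑ n ∈ (show PolynomialModule K.Ch (K.P F) from m.1).coeff.support,
    DirectSum.of (fun n => K.piece G n) n ⟨_, K.sgl_co_mem G n m⟩

theorem decomp_apply (m : G.N) (l : ℕ) : (decomp K G m l).1.1 = K.sgl F l (K.co F l m.1) := by
  classical
  rw [decomp, DFinsupp.finsetSum_apply, Submodule.coe_sum, Submodule.coe_sum]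
  by_cases hl : l ∈ (show PolynomialModule K.Ch (K.P F) from m.1).coeff.support
  · rw [Finset.sum_eq_single l (fun n _ hn => by rw [DirectSum.of_eq_of_ne _ _ _ hn.symm]; rfl)
      fun h => absurd hl h, DirectSum.of_eq_same]
    rfl
  · rw [Finset.sum_eq_zero fun n hn => by
      rw [DirectSum.of_eq_of_ne _ _ _ fun e => hl (by rw [e]; exact hn)]; rfl]
    rw [show K.co F l m.1 = 0 from Finsupp.notMem_support_iff.mp hl, K.sgl_zero]

theorem coe_apply (z : DirectSum ℕ fun n => K.piece G n) (l : ℕ) :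
    K.co F l (DirectSum.coeAddMonoidHom (K.piece G) z).1 = K.co F l (z l).1.1 := by
  induction z using DirectSum.induction_on with
  | zero => rfl
  | of n v =>
    rw [DirectSum.coeAddMonoidHom_of]
    by_cases h : n = l
    · subst h; rw [DirectSum.of_eq_same]
    · rw [DirectSum.of_eq_of_ne _ _ _ (Ne.symm h), K.mem_piece G v.2, K.co_sgl_of_ne h]
      exact (map_zero _).symm
  | add a b ha hb =>
    rw [map_add, Submodule.coe_add, map_add, ha, hb, DirectSum.add_apply, Submodule.coe_add,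
      Submodule.coe_add, map_add]

instance decomposition : DirectSum.Decomposition (K.piece G) where
  decompose' := K.decomp G
  left_inv m := Subtype.ext <| K.big_ext fun l => by
    rw [K.coe_apply, K.decomp_apply, K.co_sgl]
  right_inv z := DFinsupp.ext fun l => Subtype.ext <| Subtype.ext <| by
    show (K.decomp G _ l).1.1 = (z l).1.1
    rw [K.decomp_apply, K.coe_apply, ← K.mem_piece G (z l).2]

end Cov

end GrothLib.GrRep
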