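import Groth.Agent.Lib.GrRep.Map
import Groth.Agent.Lib.Ample.FiniteGen

/-!
# Quasi-coherent modules on Proj are `M~`
-/

universe u

set_option backward.isDefEq.respectTransparency false

open AlgebraicGeometry CategoryTheory TopologicalSpace Opposite
open GrothLib.InvExt (mres)
open GrothLib.Ample (res_res Cocycle)
open GrothLib.Ample.ProjTwist (ev ev_ext)
open GrothLib.GrTilde (evM_fracM fracM)

noncomputable section

namespace GrothLib.GrRep

variable {R A : Type u} [CommRing R] [CommRing A] [Algebra R A] {𝒜 : ℕ → Submodule R A} [GradedAlgebra 𝒜]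

/-- The cover given by finitely many degree one generators of the irrelevant ideal. -/
def covOf (s : Finset A) (hs1 : ∀ f ∈ s, f ∈ 𝒜 1)
    (hs : (HomogeneousIdeal.irrelevant 𝒜).toIdeal = Ideal.span (s : Set A)) : Cov 𝒜 where
  ι := s
  fin := inferInstance
  x i := i.1
  hx i := hs1 _ i.2
  hcov := top_le_iff.mp fun y _ => by
    obtain ⟨f, hf, hfy⟩ := GrTilde.exists_notMem_of_span hs.le y
    exact Opens.mem_iSup.mpr ⟨⟨f, hf⟩, hfy⟩

namespace Cov

variable (K : Cov 𝒜)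

theorem compactSpace (K : Cov 𝒜) : CompactSpace (Proj 𝒜) := by
  have := K.fin
  refine GrTilde.compactSpace_of_finite K.x (fun _ => 1) (fun _ => one_pos) K.hx fun y => ?_
  obtain ⟨i, hi⟩ := K.c.exists_mem y
  exact ⟨i, hi⟩

/-- The section of the twist given by a homogeneous element. -/
def esect {e : ℕ} {h : A} (hh : h ∈ 𝒜 e) : K.c.sect e ⊤ :=
  ⟨fun i => K.el h hh i inf_le_right, fun i j W hi hj => by
    rw [K.res_el, K.res_el]
    exact K.el_change hh i j _ _⟩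

theorem locus_esect {e : ℕ} {h : A} (hh : h ∈ 𝒜 e) : K.c.locus (K.esect hh) = Proj.basicOpen 𝒜 h := by
  have key : ∀ i, (Proj 𝒜).basicOpen ((K.esect hh).1 i) = Proj.basicOpen 𝒜 (K.x i * h) := fun i => by
    have e1 : (K.esect hh).1 i = Ample.res (inf_le_right : ⊤ ⊓ K.D i ≤ K.D i) (K.el h hh i le_rfl) :=
      (K.res_el _ _ _ _ _).symm
    rw [e1, ← K.basicOpen_el hh i]
    refine (Scheme.basicOpen_res _ _ _).trans ?_
    exact inf_eq_right.mpr (le_inf le_top ((Proj 𝒜).basicOpen_le _))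
  refine le_antisymm (iSup_le fun i => (key i).le.trans (Proj.basicOpen_mul 𝒜 (K.x i) h ▸ inf_le_right))
    fun z hz => ?_
  obtain ⟨i, hi⟩ := K.c.exists_mem z
  refine Opens.mem_iSup.mpr ⟨i, ?_⟩
  rw [key i]
  exact GrTilde.mem_basicOpen_mul.mpr ⟨hi, hz⟩

variable {K} (F : (Proj 𝒜).Modules)

/-- All compatible families. -/
def full : K.GrSub (F := F) := K.spanOf F {p | K.IsFam F p.1 p.2} fun _ hp => hp

variable {F}

theorem covers_full [F.IsQuasicoherent] : Covers (full F : K.GrSub (F := F)) := by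
  intro V τ y
  have := K.compactSpace
  obtain ⟨_, ⟨r, rfl⟩, hyr, hrV⟩ :=
    (ProjectiveSpectrum.isTopologicalBasis_basic_opens 𝒜).exists_subset_of_mem_open y.2 V.2
  simp only [SetLike.mem_coe, ProjectiveSpectrum.basicOpen_eq_union_of_projection 𝒜 r, Opens.mem_iSup] at hyr
  obtain ⟨e, hye⟩ := hyr
  let h : A := GradedRing.proj 𝒜 e r
  have hh : h ∈ 𝒜 e := SetLike.coe_mem _
  have hW : Proj.basicOpen 𝒜 h ≤ V := fun z hz => hrV (by
    show z ∈ ProjectiveSpectrum.basicOpen 𝒜 r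
    rw [ProjectiveSpectrum.basicOpen_eq_union_of_projection 𝒜 r, Opens.mem_iSup]
    exact ⟨e, hz⟩)
  have hloc : K.c.locus (K.esect hh) = Proj.basicOpen 𝒜 h := K.locus_esect hh
  let β : K.c.msect F 0 (K.c.locus (K.esect hh)) :=
    ⟨fun i => mres F (inf_le_left.trans (hloc.le.trans hW)) τ, fun i j W hi hj => by
      rw [pow_zero, one_smul, InvExt.mres_mres, InvExt.mres_mres]⟩
  obtain ⟨m, b, hb⟩ := K.c.exists_mextend (K.esect hh) β
  let B : K.P F := fun i => mres F (le_inf le_top le_rfl : K.D i ≤ ⊤ ⊓ K.D i) (b.1 i)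
  have hB : K.IsFam F (0 + e * m) B := fun i j W hi hj => by
    rw [InvExt.mres_mres, InvExt.mres_mres]
    exact K.c.msect_spec b i j _ _
  have hBG : K.sgl F (0 + e * m) B ∈ (full F : K.GrSub (F := F)).N :=
    K.sgl_mem_spanOf (p := (0 + e * m, B)) _ hB
  have hhm : h ^ m ∈ 𝒜 (0 + e * m) := by
    rw [zero_add, mul_comm, ← smul_eq_mul]
    exact SetLike.pow_mem_graded m hh
  refine ⟨Proj.basicOpen 𝒜 h, hW, hye, _, K.mkEl _ _ B hBG, K.mkEl_mem _ _ _ _, h ^ m, hhm,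
    fun z hm => z.2 (z.1.isPrime.mem_of_pow_mem m hm), fun i => ?_⟩
  show _ = mres F _ (K.co F _ (K.sgl F (0 + e * m) B) i)
  rw [K.co_sgl]
  have hle : Proj.basicOpen 𝒜 h ⊓ K.D i ≤ K.c.locus (K.esect hh) ⊓ K.c.D i :=
    inf_le_inf_right _ hloc.ge
  have h1 := congrArg (mres F hle) (congrFun (congrArg Subtype.val hb) i)
  rw [Cocycle.msectRes_apply, Cocycle.mraise_apply, InvExt.mres_mres, Ample.mres_smul', map_pow, res_res] at h1
  have h2 : Ample.res (hle.trans (inf_le_inf_right (K.c.D i) le_top)) ((K.esect hh).1 i) ^ m =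
      K.el (h ^ m) hhm i (inf_le_right : Proj.basicOpen 𝒜 h ⊓ K.D i ≤ K.D i) := by
    show Ample.res (hle.trans (inf_le_inf_right (K.c.D i) le_top)) (K.el h hh i (inf_le_right : ⊤ ⊓ K.D i ≤ K.D i)) ^ m = _
    rw [K.res_el]
    refine ev_ext fun z => ?_
    rw [Ample.ProjTwist.ev_pow, K.ev_el, K.ev_el, Localization.mk_pow]
    congr 1
    exact Subtype.ext (by simp [pow_mul])
  rw [show β.1 i = mres F (inf_le_left.trans (hloc.le.trans hW)) τ from rfl, InvExt.mres_mres, h2] at h1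
  rw [InvExt.mres_mres, InvExt.mres_mres]
  exact h1.symm

theorem exists_finite_covers [F.IsQuasicoherent] (hFT : CohB1.IsFT F) (hamp : K.c.IsAmp) :
    ∃ G : K.GrSub (F := F), Module.Finite A G.N ∧ Covers G := by
  have := K.compactSpace
  have hM : ∀ p : Proj 𝒜, ∃ O : (Proj 𝒜).Opens, p ∈ O ∧ ∀ W : (Proj 𝒜).Opens, IsAffineOpen W → W ≤ O →
      Module.Finite Γ(Proj 𝒜, W) Γ(F, W) :=
    fun p => ⟨⊤, trivial, fun W hW _ => QCoh.moduleFinite_of_isFiniteType F hFT hW⟩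
  obtain ⟨n₀, hspan⟩ := K.c.eventually_spanned F hamp hM
  have := K.c.isQuasicoherent_modTwist F n₀
  obtain ⟨k, t, ht⟩ := Ample.exists_finite_spanned (K.c.modTwist F n₀) (K.c.finite_modTwist F n₀ hM)
    (fun σ : K.c.msect F n₀ ⊤ => (σ : Γ(K.c.modTwist F n₀, ⊤))) (hspan n₀ le_rfl)
  let B : Fin k → K.P F := fun l i => mres F (le_inf le_top le_rfl : K.D i ≤ ⊤ ⊓ K.D i) ((t l).1 i)
  have hS : ∀ p ∈ Set.range fun l => (n₀, B l), K.IsFam F (p : ℕ × K.P F).1 p.2 := by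
    rintro _ ⟨l, rfl⟩ i j W hi hj
    rw [InvExt.mres_mres, InvExt.mres_mres]
    exact K.c.msect_spec (t l) i j _ _
  let G := K.spanOf F _ hS
  refine ⟨G, K.finite_spanOf hS (Set.finite_range _), fun V τ y => ?_⟩
  obtain ⟨j, hj⟩ := K.c.exists_mem y.1
  let O : (Proj 𝒜).Opens := V ⊓ K.D j
  let μ : K.c.msect F n₀ O := K.c.mbase n₀ j inf_le_right (mres F inf_le_left τ)
  obtain ⟨W, hW, hyW, hmem⟩ := ht O μ y.1 ⟨y.2, hj⟩
  have hWj : W ≤ K.D j := hW.trans inf_le_right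
  let Φ : Γ(tl G, W) → Γ(F, W) := fun σ => (toF G).app W σ
  have key : ∀ ν : K.c.msect F n₀ W,
      ν ∈ Submodule.span Γ(Proj 𝒜, W) (Set.range fun l => K.c.msectRes (le_top : W ≤ ⊤) (t l)) →
      ∃ σ, Φ σ = (K.c.mbaseEquiv F n₀ j hWj).symm ν := fun ν hν => by
    induction hν using Submodule.span_induction with
    | mem z hz =>
      obtain ⟨l, rfl⟩ := hz
      have hxn : K.x j ^ n₀ ∈ 𝒜 n₀ := Ample.ProjTwist.pow_mem 𝒜 (K.hx j) n₀
      have hBl : K.sgl F n₀ (B l) ∈ G.N := K.sgl_mem_spanOf (p := (n₀, B l)) hS ⟨l, rfl⟩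
      refine ⟨fracM (K.mkEl G n₀ (B l) hBl) (K.x j ^ n₀) (K.mkEl_mem _ _ _ _) hxn
        (fun z : W => Ample.ProjTwist.pow_notMem 𝒜 n₀ (hWj z.2)) (Or.inl (by simp)), ?_⟩
      refine valFun_eq G fun z => ⟨W, le_rfl, z.2, n₀, _, K.mkEl_mem _ _ _ hBl, K.x j ^ n₀, hxn,
        fun z => Ample.ProjTwist.pow_notMem 𝒜 n₀ (hWj z.2), fun z' => evM_fracM _ _ _ _ _ _ _, fun i => ?_⟩
      show _ • mres F _ (mres F _ (mres F _ (mres F _ ((t l).1 j)))) = mres F _ (K.co F _ (K.sgl F n₀ (B l)) i)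
      rw [K.co_sgl, InvExt.mres_mres, InvExt.mres_mres, InvExt.mres_mres, InvExt.mres_mres,
        K.el_pow_self n₀ i j _ (inf_le_left.trans hWj)]
      exact (K.c.msect_spec (t l) i j _ _).symm
    | zero => exact ⟨0, (map_zero _).trans (map_zero (K.c.mbaseEquiv F n₀ j hWj).symm).symm⟩
    | add a b _ _ ha hb =>
      obtain ⟨σ, hσ⟩ := ha
      obtain ⟨σ', hσ'⟩ := hb
      exact ⟨σ + σ', ((map_add _ σ σ').trans (congrArg₂ (· + ·) hσ hσ')).trans
        (map_add (K.c.mbaseEquiv F n₀ j hWj).symm a b).symm⟩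
    | smul c a _ ha =>
      obtain ⟨σ, hσ⟩ := ha
      exact ⟨c • σ, ((Ample.app_smul _ c σ).trans (congrArg (c • ·) hσ)).trans
        (map_smul (K.c.mbaseEquiv F n₀ j hWj).symm c a).symm⟩
  obtain ⟨σ, hσ⟩ := key _ hmem
  have hτ : (K.c.mbaseEquiv F n₀ j hWj).symm (K.c.msectRes hW μ) = mres F (hW.trans inf_le_left) τ := by
    rw [show K.c.msectRes hW μ = K.c.mbaseEquiv F n₀ j hWj (mres F (hW.trans inf_le_left) τ) from
      (K.c.msectRes_mbase F j inf_le_right hW _).trans (congrArg (K.c.mbase n₀ j hWj) (InvExt.mres_mres F _ _ τ))]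
    exact (K.c.mbaseEquiv F n₀ j hWj).symm_apply_apply _
  have hl : LocVal σ (mres F (hW.trans inf_le_left) τ) := by
    have := (exists_locVal σ).choose_spec
    rwa [show (exists_locVal σ).choose = mres F (hW.trans inf_le_left) τ from hσ.trans hτ] at this
  obtain ⟨W', hW', hy', q, a, ha, s, hs, nin, -, hv⟩ := hl ⟨y.1, hyW⟩
  rw [InvExt.mres_mres] at hv
  exact ⟨W', hW'.trans (hW.trans inf_le_left), hy', q, a, ha, s, hs, nin, hv⟩

end Cov

variable (s : Finset A) (hs1 : ∀ f ∈ s, f ∈ 𝒜 1)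
  (hs : (HomogeneousIdeal.irrelevant 𝒜).toIdeal = Ideal.span (s : Set A)) (F : (Proj 𝒜).Modules)

include hs1 hs

theorem exists_tilde (hF : F.IsQuasicoherent) :
    ∃ (M : Type u) (_ : AddCommGroup M) (_ : Module R M) (_ : Module A M) (_ : IsScalarTower R A M)
      (ℳ : ℕ → Submodule R M) (_ : DirectSum.Decomposition ℳ) (_ : SetLike.GradedSMul 𝒜 ℳ),
      Nonempty (_root_.GrTilde.tilde 𝒜 ℳ 0 ≅ F) := by
  let K := covOf s hs1 hs
  have := Cov.isIso_toF (Cov.full F : K.GrSub (F := F)) Cov.covers_full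
  exact ⟨_, inferInstance, inferInstance, inferInstance, inferInstance,
    K.piece (Cov.full F), inferInstance, inferInstance, ⟨asIso (Cov.toF (Cov.full F))⟩⟩

theorem exists_tilde_finite (hF : F.IsQuasicoherent) (hFT : CohB1.IsFT F) :
    ∃ (N : Type u) (_ : AddCommGroup N) (_ : Module R N) (_ : Module A N) (_ : IsScalarTower R A N)
      (𝒩 : ℕ → Submodule R N) (_ : DirectSum.Decomposition 𝒩) (_ : SetLike.GradedSMul 𝒜 𝒩),
      Module.Finite A N ∧ Nonempty (_root_.GrTilde.tilde 𝒜 𝒩 0 ≅ F) := by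
  let K := covOf s hs1 hs
  have := K.compactSpace
  have hamp : CohB1.IsAmple (Twist.twist 𝒜 ((1 : ℕ) : ℤ)) := GrTilde.isAmple_twist_of_cover one_pos fun y => by
    obtain ⟨i, hi⟩ := K.c.exists_mem y
    exact ⟨_, K.hx i, hi⟩
  have hc : K.c.IsAmp :=
    ((K.c.isAmple_iff (asIso (Ample.ProjTwist.toTwist 𝒜 K.x K.hx K.hcov 1)).symm).mp hamp).2
  obtain ⟨G, hfin, hG⟩ := Cov.exists_finite_covers (K := K) hFT hc
  have := Cov.isIso_toF G hG
  exact ⟨_, inferInstance, inferInstance, inferInstance, inferInstance,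
    K.piece G, inferInstance, inferInstance, hfin, ⟨asIso (Cov.toF G)⟩⟩

end GrothLib.GrRep
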