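import Groth.Agent.Lib.GrRep.Chart

/-!
# `M~ ⟶ F` for a graded module of families of twisted sections
-/

universe u

set_option backward.isDefEq.respectTransparency false

open AlgebraicGeometry CategoryTheory TopologicalSpace Opposite
open GrothLib.InvExt (mres)
open GrothLib.Ample (res res_res)
open GrothLib.Ample.ProjTwist (ev fracO ev_fracO ev_ext ev_res ev_mul)
open GrothLib.GrTilde (evM evM_ext evM_mres evM_smul evM_add evM_zero fracM evM_fracM)

noncomputable section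

namespace GrothLib.GrRep

variable {R A : Type u} [CommRing R] [CommRing A] [Algebra R A] {𝒜 : ℕ → Submodule R A} [GradedAlgebra 𝒜]

namespace Cov

variable {K : Cov 𝒜} {F : (Proj 𝒜).Modules} {G : K.GrSub (F := F)}

/-- `M~` for the graded module. -/
abbrev tl (G : K.GrSub (F := F)) : (Proj 𝒜).Modules := _root_.GrTilde.tilde 𝒜 (K.piece G) 0

/-- `τ` is the value of `a / s` on `W`. -/
def IsVal (W : (Proj 𝒜).Opens) {q : ℕ} (a : K.P F) {s : A} (hs : s ∈ 𝒜 q) (τ : Γ(F, W)) : Prop :=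
  ∀ i, K.el s hs i (inf_le_right : W ⊓ K.D i ≤ K.D i) • mres F (inf_le_left : W ⊓ K.D i ≤ W) τ =
    mres F inf_le_right (a i)

theorem IsVal.res {W W' : (Proj 𝒜).Opens} (h : W' ≤ W) {q : ℕ} {a : K.P F} {s : A} {hs : s ∈ 𝒜 q}
    {τ : Γ(F, W)} (hv : IsVal W a hs τ) : IsVal W' a hs (mres F h τ) := fun i => by
  have e := congrArg (mres F (inf_le_inf_right (K.D i) h)) (hv i)
  rw [Ample.mres_smul', K.res_el, InvExt.mres_mres, InvExt.mres_mres] at e
  rw [InvExt.mres_mres]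
  exact e

/-- The value of a fraction exists. -/
theorem exists_isVal {W : (Proj 𝒜).Opens} {q : ℕ} {a : K.P F} (ha : K.IsFam F q a) {s : A} (hs : s ∈ 𝒜 q)
    (nin : ∀ y : W, s ∉ y.1.asHomogeneousIdeal) : ∃ τ : Γ(F, W), IsVal W a hs τ := by
  have hu : ∀ i {V : (Proj 𝒜).Opens} (h : V ≤ K.D i), V ≤ W → IsUnit (K.el s hs i h) :=
    fun i V h hV => K.isUnit_el hs i h fun y => nin ⟨y.1, hV y.2⟩
  let t : ∀ i, Γ(F, W ⊓ K.D i) := fun i =>
    ((hu i (inf_le_right : W ⊓ K.D i ≤ K.D i) inf_le_left).unit⁻¹ : Γ(Proj 𝒜, W ⊓ K.D i)ˣ).val •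
      mres F inf_le_right (a i)
  have ht : ∀ i, K.el s hs i (inf_le_right : W ⊓ K.D i ≤ K.D i) • t i = mres F inf_le_right (a i) := fun i => by
    rw [smul_smul, IsUnit.mul_val_inv, one_smul]
  obtain ⟨τ, hτ, -⟩ := TopCat.Sheaf.existsUnique_gluing' ⟨F.presheaf, F.isSheaf⟩ (fun i => W ⊓ K.D i) W
    (fun i => homOfLE inf_le_left)
    (by rw [← inf_iSup_eq, K.hcov, inf_top_eq]) t fun i j => by
      show mres F inf_le_left (t i) = mres F inf_le_right (t j)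
      have hi : (W ⊓ K.D i) ⊓ (W ⊓ K.D j) ≤ K.D i := inf_le_left.trans inf_le_right
      have hj : (W ⊓ K.D i) ⊓ (W ⊓ K.D j) ≤ K.D j := inf_le_right.trans inf_le_right
      refine (hu i hi (inf_le_left.trans inf_le_left)).smul_left_cancel.mp ?_
      have e1 := congrArg (mres F (inf_le_left : (W ⊓ K.D i) ⊓ (W ⊓ K.D j) ≤ W ⊓ K.D i)) (ht i)
      rw [Ample.mres_smul', K.res_el, InvExt.mres_mres] at e1
      have e2 := congrArg (mres F (inf_le_right : (W ⊓ K.D i) ⊓ (W ⊓ K.D j) ≤ W ⊓ K.D j)) (ht j)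
      rw [Ample.mres_smul', K.res_el, InvExt.mres_mres] at e2
      rw [e1, ha i j _ hi hj, ← e2, smul_smul, ← K.el_change hs i j hi hj]
  exact ⟨τ, fun i => by
    rw [show mres F (inf_le_left : W ⊓ K.D i ≤ W) τ = t i from hτ i]
    exact ht i⟩

theorem smul_co {k : ℕ} {c : A} (hc : c ∈ 𝒜 k) {n : ℕ} {b : G.N} (hb : b ∈ K.piece G n) :
    K.co F (k + n) (c • b : G.N).1 = K.pmul c hc (K.co F n b.1) := by
  rw [Submodule.coe_smul, K.mem_piece G hb, K.smul_sgl hc, K.co_sgl, K.co_sgl]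

/-- Values of equal fractions are equal. -/
theorem isVal_unique {W : (Proj 𝒜).Opens} {q q' : ℕ} {a b : G.N} (ha : a ∈ K.piece G q)
    (hb : b ∈ K.piece G q') {s t : A} (hs : s ∈ 𝒜 q) (ht : t ∈ 𝒜 q')
    (nins : ∀ y : W, s ∉ y.1.asHomogeneousIdeal) (nint : ∀ y : W, t ∉ y.1.asHomogeneousIdeal)
    (he : ∀ y : W, (LocalizedModule.mk a ⟨s, nins y⟩ : _root_.GrTilde.LocMod 𝒜 (M := G.N) y.1) =
      LocalizedModule.mk b ⟨t, nint y⟩)
    {τ τ' : Γ(F, W)} (hτ : IsVal W (K.co F q a.1) hs τ) (hτ' : IsVal W (K.co F q' b.1) ht τ') : τ = τ' := by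
  have key : ∀ y : W, ∃ (r : ℕ) (u : A) (hu : u ∈ 𝒜 r), u ∉ y.1.asHomogeneousIdeal ∧
      K.pmul u hu (K.pmul t ht (K.co F q a.1)) = K.pmul u hu (K.pmul s hs (K.co F q' b.1)) := by
    intro y
    obtain ⟨⟨u₀, hu₀⟩, e⟩ := LocalizedModule.mk_eq.mp (he y)
    have hd : t • a - s • b ∈ K.piece G (q + q') := by
      refine sub_mem ?_ (GrTilde.smul_mem hs hb)
      rw [add_comm q q']
      exact GrTilde.smul_mem ht ha
    obtain ⟨r, u, hu, huy, hk⟩ := GrTilde.exists_homogeneous_kill hd hu₀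
      (by rw [smul_sub, sub_eq_zero]; exact e)
    refine ⟨r, u, hu, huy, ?_⟩
    rw [smul_sub, sub_eq_zero] at hk
    have h1 : K.co F (r + (q + q')) (u • t • a : G.N).1 = K.pmul u hu (K.pmul t ht (K.co F q a.1)) := by
      have hta : t • a ∈ K.piece G (q' + q) := GrTilde.smul_mem ht ha
      rw [show q + q' = q' + q from add_comm _ _, smul_co hu hta, smul_co ht ha]
    have h2 : K.co F (r + (q + q')) (u • s • b : G.N).1 = K.pmul u hu (K.pmul s hs (K.co F q' b.1)) := by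
      rw [smul_co hu (GrTilde.smul_mem hs hb), smul_co hs hb]
    rw [← h1, ← h2, hk]
  choose r u hu huy hk using key
  refine Ample.meq_of_cover F (fun p : W × K.ι => W ⊓ Proj.basicOpen 𝒜 (u p.1) ⊓ K.D p.2)
    (fun p => inf_le_left.trans inf_le_left) (fun z hz => ?_) fun p => ?_
  · obtain ⟨i, hi⟩ := K.c.exists_mem z
    exact Opens.mem_iSup.mpr ⟨(⟨z, hz⟩, i), ⟨hz, huy ⟨z, hz⟩⟩, hi⟩
  · obtain ⟨y, i⟩ := p
    let V : (Proj 𝒜).Opens := W ⊓ Proj.basicOpen 𝒜 (u y) ⊓ K.D i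
    have hVW : V ≤ W := inf_le_left.trans inf_le_left
    have hV : V ≤ W ⊓ K.D i := le_inf hVW inf_le_right
    have e1 := congrArg (mres F hV) (hτ i)
    have e2 := congrArg (mres F hV) (hτ' i)
    rw [Ample.mres_smul', K.res_el, InvExt.mres_mres, InvExt.mres_mres] at e1 e2
    have e3 : mres F (inf_le_right : V ≤ K.D i) (K.pmul (u y) (hu y) (K.pmul t ht (K.co F q a.1)) i) =
        mres F (inf_le_right : V ≤ K.D i) (K.pmul (u y) (hu y) (K.pmul s hs (K.co F q' b.1)) i) := by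
      rw [hk y]
    simp only [pmul, Ample.mres_smul', K.res_el] at e3
    rw [← e1, ← e2, smul_smul, smul_smul, smul_smul, smul_smul] at e3
    have hU : IsUnit (K.el (u y) (hu y) i (inf_le_right : V ≤ K.D i) * K.el t ht i inf_le_right *
        K.el s hs i inf_le_right) :=
      ((K.isUnit_el (V := V) _ _ _ fun (z : V) => z.2.1.2).mul (K.isUnit_el (V := V) _ _ _ fun (z : V) => nint ⟨z.1, hVW z.2⟩)).mul
        (K.isUnit_el (V := V) _ _ _ fun (z : V) => nins ⟨z.1, hVW z.2⟩)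
    refine hU.smul_left_cancel.mp ?_
    refine e3.trans (congrArg (· • mres F hVW τ') ?_)
    ring

/-- `σ` and `τ` have a common fraction near each point. -/
def LocVal {V : (Proj 𝒜).Opens} (σ : Γ(tl G, V)) (τ : Γ(F, V)) : Prop :=
  ∀ y : V, ∃ (W : (Proj 𝒜).Opens) (hW : W ≤ V) (_ : y.1 ∈ W) (q : ℕ) (a : G.N) (_ : a ∈ K.piece G q)
    (s : A) (hs : s ∈ 𝒜 q) (nin : ∀ z : W, s ∉ z.1.asHomogeneousIdeal),
      (∀ z : W, evM ⟨z.1, hW z.2⟩ σ = LocalizedModule.mk a ⟨s, nin z⟩) ∧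
        IsVal W (K.co F q a.1) hs (mres F hW τ)

theorem LocVal.res {V V' : (Proj 𝒜).Opens} (h : V' ≤ V) {σ : Γ(tl G, V)} {τ : Γ(F, V)} (hl : LocVal σ τ) :
    LocVal (mres (tl G) h σ) (mres F h τ) := fun y => by
  obtain ⟨W, hW, hy, q, a, ha, s, hs, nin, hσ, hτ⟩ := hl ⟨y.1, h y.2⟩
  refine ⟨W ⊓ V', inf_le_right, ⟨hy, y.2⟩, q, a, ha, s, hs, fun z => nin ⟨z.1, z.2.1⟩,
    fun z => (evM_mres h σ ⟨z.1, z.2.2⟩).trans (hσ ⟨z.1, z.2.1⟩), ?_⟩
  have := hτ.res (inf_le_left : W ⊓ V' ≤ W)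
  rw [InvExt.mres_mres] at this ⊢
  exact this

theorem LocVal.unique {V : (Proj 𝒜).Opens} {σ : Γ(tl G, V)} {τ τ' : Γ(F, V)} (h : LocVal σ τ)
    (h' : LocVal σ τ') : τ = τ' := by
  choose W hW hy q a ha s hs nin hσ hτ using h
  choose W' hW' hy' q' a' ha' s' hs' nin' hσ' hτ' using h'
  refine Ample.meq_of_cover F (fun y : V => W y ⊓ W' y) (fun y => inf_le_left.trans (hW y))
    (fun z hz => Opens.mem_iSup.mpr ⟨⟨z, hz⟩, hy _, hy' _⟩) fun y => ?_
  have h1 := (hτ y).res (inf_le_left : W y ⊓ W' y ≤ W y)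
  have h2 := (hτ' y).res (inf_le_right : W y ⊓ W' y ≤ W' y)
  rw [InvExt.mres_mres] at h1 h2
  exact isVal_unique (W := W y ⊓ W' y) (ha y) (ha' y) (hs y) (hs' y)
    (fun (z : ↥(W y ⊓ W' y : (Proj 𝒜).Opens)) => nin y ⟨z.1, z.2.1⟩)
    (fun (z : ↥(W y ⊓ W' y : (Proj 𝒜).Opens)) => nin' y ⟨z.1, z.2.2⟩)
    (fun (z : ↥(W y ⊓ W' y : (Proj 𝒜).Opens)) => (hσ y ⟨z.1, z.2.1⟩).symm.trans (hσ' y ⟨z.1, z.2.2⟩)) h1 h2

theorem exists_rep {V : (Proj 𝒜).Opens} (σ : Γ(tl G, V)) (y : V) :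
    ∃ (W : (Proj 𝒜).Opens) (hW : W ≤ V) (_ : y.1 ∈ W) (q : ℕ) (a : G.N) (_ : a ∈ K.piece G q)
      (s : A) (_ : s ∈ 𝒜 q) (nin : ∀ z : W, s ∉ z.1.asHomogeneousIdeal),
      ∀ z : W, evM ⟨z.1, hW z.2⟩ σ = LocalizedModule.mk a ⟨s, nin z⟩ := by
  obtain ⟨W, hy, iW, p, q, ⟨a, ha⟩, ⟨s, hs⟩, nin, hd, hval⟩ :=
    (show _root_.GrTilde.sect 𝒜 (K.piece G) 0 (op V) from σ).2 y
  replace hd : (p : ℤ) = q + 0 ∨ a = 0 := hd
  have ha' : a ∈ K.piece G q := by
    rcases hd with h | h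
    · obtain rfl : p = q := by omega
      exact ha
    · rw [h]; exact zero_mem _
  exact ⟨W, leOfHom iW, hy, q, a, ha', s, hs, nin, fun z => hval z⟩

theorem exists_locVal {V : (Proj 𝒜).Opens} (σ : Γ(tl G, V)) : ∃ τ : Γ(F, V), LocVal σ τ := by
  choose W hW hy q a ha s hs nin hσ using exists_rep σ
  choose t ht using fun y => exists_isVal (W := W y) (G.fam _ (a y).2 (q y)) (hs y) (nin y)
  obtain ⟨τ, hτ, -⟩ := TopCat.Sheaf.existsUnique_gluing' ⟨F.presheaf, F.isSheaf⟩ W V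
    (fun y => homOfLE (hW y)) (fun z hz => Opens.mem_iSup.mpr ⟨⟨z, hz⟩, hy _⟩) t fun y y' =>
      isVal_unique (W := W y ⊓ W y') (ha y) (ha y') (hs y) (hs y')
        (fun (z : ↥(W y ⊓ W y' : (Proj 𝒜).Opens)) => nin y ⟨z.1, z.2.1⟩)
        (fun (z : ↥(W y ⊓ W y' : (Proj 𝒜).Opens)) => nin y' ⟨z.1, z.2.2⟩)
        (fun (z : ↥(W y ⊓ W y' : (Proj 𝒜).Opens)) => (hσ y ⟨z.1, z.2.1⟩).symm.trans (hσ y' ⟨z.1, z.2.2⟩))
        ((ht y).res inf_le_left) ((ht y').res inf_le_right)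
  refine ⟨τ, fun y => ⟨W y, hW y, hy y, q y, a y, ha y, s y, hs y, nin y, hσ y, ?_⟩⟩
  rw [show mres F (hW y) τ = t y from hτ y]
  exact ht y

theorem LocVal.add {V : (Proj 𝒜).Opens} {σ σ' : Γ(tl G, V)} {τ τ' : Γ(F, V)} (h : LocVal σ τ)
    (h' : LocVal σ' τ') : LocVal (σ + σ') (τ + τ') := fun y => by
  obtain ⟨W, hW, hy, q, a, ha, s, hs, nin, hσ, hτ⟩ := h y
  obtain ⟨W', hW', hy', q', a', ha', s', hs', nin', hσ', hτ'⟩ := h' y
  have hss : s * s' ∈ 𝒜 (q + q') := SetLike.mul_mem_graded hs hs'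
  have hm : s' • a + s • a' ∈ K.piece G (q + q') := by
    refine add_mem ?_ (GrTilde.smul_mem hs ha')
    rw [add_comm q q']
    exact GrTilde.smul_mem hs' ha
  refine ⟨W ⊓ W', inf_le_left.trans hW, ⟨hy, hy'⟩, q + q', s' • a + s • a', hm, s * s', hss,
    fun z => (GrTilde.mem_basicOpen_mul).mpr ⟨nin ⟨z.1, z.2.1⟩, nin' ⟨z.1, z.2.2⟩⟩, fun z => ?_, fun i => ?_⟩
  · rw [evM_add, hσ ⟨z.1, z.2.1⟩, show evM ⟨z.1, (inf_le_left.trans hW) z.2⟩ σ' = _ from hσ' ⟨z.1, z.2.2⟩,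
      LocalizedModule.mk_add_mk]
    rfl
  · have e1 : K.co F (q + q') (s' • a : G.N).1 = K.pmul s' hs' (K.co F q a.1) := by
      rw [add_comm q q']; exact smul_co hs' ha
    have h1 := congrArg (mres F (inf_le_inf_right (K.D i) (inf_le_left : W ⊓ W' ≤ W))) (hτ i)
    have h2 := congrArg (mres F (inf_le_inf_right (K.D i) (inf_le_right : W ⊓ W' ≤ W'))) (hτ' i)
    rw [Ample.mres_smul', K.res_el, InvExt.mres_mres, InvExt.mres_mres, InvExt.mres_mres] at h1 h2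
    rw [Submodule.coe_add, map_add, e1, smul_co hs ha', InvExt.mres_mres, K.el_mul hs hs']
    show _ • mres F _ (τ + τ') = mres F inf_le_right (K.el s' hs' i _ • _ + K.el s hs i _ • _)
    simp only [mres, map_add, smul_add]
    change _ • mres F _ τ + _ • mres F _ τ' = mres F inf_le_right _ + mres F inf_le_right _
    rw [Ample.mres_smul', Ample.mres_smul', K.res_el, K.res_el, ← h1, ← h2, smul_smul, smul_smul,
      mul_comm (K.el s' hs' i _) (K.el s hs i _)]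

theorem LocVal.smul {V : (Proj 𝒜).Opens} {σ : Γ(tl G, V)} {τ : Γ(F, V)} (h : LocVal σ τ)
    (c : Γ(Proj 𝒜, V)) : LocVal (c • σ) (c • τ) := fun y => by
  obtain ⟨W, hW, hy, q, a, ha, s, hs, nin, hσ, hτ⟩ := h y
  obtain ⟨W', hy', iW', k, ⟨b, hb⟩, ⟨t, ht⟩, nint, hc⟩ := c.2 y
  have hev : ∀ z : W', ev (⟨z.1, leOfHom iW' z.2⟩ : V) c = Localization.mk b ⟨t, nint z⟩ := fun z => by
    refine (congrArg HomogeneousLocalization.val (hc z)).trans ?_
    rfl
  refine ⟨W ⊓ W', inf_le_left.trans hW, ⟨hy, hy'⟩, k + q, b • a, GrTilde.smul_mem hb ha, t * s,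
    SetLike.mul_mem_graded ht hs,
    fun z => (GrTilde.mem_basicOpen_mul).mpr ⟨nint ⟨z.1, z.2.2⟩, nin ⟨z.1, z.2.1⟩⟩, fun z => ?_, fun i => ?_⟩
  · rw [evM_smul, hev ⟨z.1, z.2.2⟩, hσ ⟨z.1, z.2.1⟩, LocalizedModule.mk_smul_mk]
    rfl
  · have hle : (W ⊓ W') ⊓ K.D i ≤ V := inf_le_left.trans (inf_le_left.trans hW)
    have h1 := congrArg (mres F (inf_le_inf_right (K.D i) (inf_le_left : W ⊓ W' ≤ W))) (hτ i)
    rw [Ample.mres_smul', K.res_el, InvExt.mres_mres, InvExt.mres_mres, InvExt.mres_mres] at h1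
    have h2 : K.el t ht i (inf_le_right : (W ⊓ W') ⊓ K.D i ≤ K.D i) * Ample.res hle c = K.el b hb i inf_le_right :=
      ev_ext fun z => by
        rw [ev_mul, K.ev_el, K.ev_el, ev_res, hev ⟨z.1, z.2.1.2⟩, Localization.mk_mul,
          Localization.mk_eq_mk_iff, Localization.r_iff_exists]
        exact ⟨1, by simp only [OneMemClass.coe_one, one_mul, Submonoid.coe_mul]; ring⟩
    rw [smul_co hb ha, InvExt.mres_mres, Ample.mres_smul', K.el_mul ht hs]
    show _ = mres F inf_le_right (K.el b hb i _ • _)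
    rw [Ample.mres_smul', K.res_el, ← h1, ← h2, smul_smul, smul_smul]
    congr 1
    ring

variable (G)

/-- The value map on sections. -/
def valFun (V : (Proj 𝒜).Opens) (σ : Γ(tl G, V)) : Γ(F, V) := (exists_locVal σ).choose

theorem valFun_eq {V : (Proj 𝒜).Opens} {σ : Γ(tl G, V)} {τ : Γ(F, V)} (h : LocVal σ τ) : valFun G V σ = τ :=
  (exists_locVal σ).choose_spec.unique h

/-- The comparison map `M~ ⟶ F`. -/
def toF : tl G ⟶ F :=
  ⟨{
    app := fun V => ModuleCat.ofHom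
      (X := ((tl G).val.obj V : Type u))
      (Y := (F.val.obj V : Type u))
      { toFun := fun (σ : Γ(tl G, V.unop)) => valFun G V.unop σ
        map_add' := fun σ σ' => valFun_eq G ((exists_locVal σ).choose_spec.add (exists_locVal σ').choose_spec)
        map_smul' := fun (r : Γ(Proj 𝒜, V.unop)) (σ : Γ(tl G, V.unop)) =>
          valFun_eq G ((exists_locVal σ).choose_spec.smul r) }
    naturality := fun {V W} f => by
      ext (σ : Γ(tl G, V.unop))
      exact valFun_eq G ((exists_locVal σ).choose_spec.res (leOfHom f.unop)) }⟩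

theorem toF_app {V : (Proj 𝒜).Opens} (σ : Γ(tl G, V)) : (toF G).app V σ = valFun G V σ := rfl

/-- Every section of `F` is near each point the value of a fraction. -/
def Covers : Prop :=
  ∀ (V : (Proj 𝒜).Opens) (τ : Γ(F, V)) (y : V), ∃ (W : (Proj 𝒜).Opens) (hW : W ≤ V) (_ : y.1 ∈ W) (q : ℕ)
    (a : G.N) (_ : a ∈ K.piece G q) (s : A) (hs : s ∈ 𝒜 q) (_ : ∀ z : W, s ∉ z.1.asHomogeneousIdeal),
      IsVal W (K.co F q a.1) hs (mres F hW τ)

variable [F.IsQuasicoherent]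

theorem injective_valFun (V : (Proj 𝒜).Opens) {σ σ' : Γ(tl G, V)} (h : valFun G V σ = valFun G V σ') :
    σ = σ' := by
  suffices hz : ∀ σ : Γ(tl G, V), valFun G V σ = 0 → σ = 0 by
    have e : (toF G).app V (σ - σ') = 0 := by
      rw [map_sub, toF_app, toF_app, h, sub_self]
    exact sub_eq_zero.mp (hz _ e)
  intro σ hσ0
  refine evM_ext fun y => ?_
  rw [evM_zero]
  obtain ⟨W, hW, hy, q, a, ha, s, hs, nin, hσ, hτ⟩ := (exists_locVal σ).choose_spec y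
  rw [show (exists_locVal σ).choose = 0 from hσ0] at hτ
  rw [show evM y σ = _ from hσ ⟨y.1, hy⟩, ← LocalizedModule.zero_mk (1 : y.1.asHomogeneousIdeal.toIdeal.primeCompl)]
  obtain ⟨_, ⟨r, rfl⟩, hyr, hrW⟩ :=
    (ProjectiveSpectrum.isTopologicalBasis_basic_opens 𝒜).exists_subset_of_mem_open hy W.2
  simp only [SetLike.mem_coe, ProjectiveSpectrum.basicOpen_eq_union_of_projection 𝒜 r, Opens.mem_iSup] at hyr
  obtain ⟨l, hyl⟩ := hyr
  let h : A := GradedRing.proj 𝒜 l r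
  have hh : h ∈ 𝒜 l := SetLike.coe_mem _
  have hhW : ∀ z : Proj 𝒜, h ∉ z.asHomogeneousIdeal → z ∈ W := fun z hz => hrW (by
    show z ∈ ProjectiveSpectrum.basicOpen 𝒜 r
    rw [ProjectiveSpectrum.basicOpen_eq_union_of_projection 𝒜 r, Opens.mem_iSup]
    exact ⟨l, hz⟩)
  have key : ∀ i, ∃ N : ℕ, K.el h hh i (le_refl (K.D i)) ^ N • K.co F q a.1 i = 0 := fun i => by
    refine (QCoh.smulLift_and_smulSep_of_isAffineOpen
      (Proj.isAffineOpen_basicOpen 𝒜 (K.x i) (K.hx i) one_pos) F (K.el h hh i (le_refl (K.D i)))).2 _ ?_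
    have hle : (Proj 𝒜).basicOpen (K.el h hh i (le_refl (K.D i))) ≤ W ⊓ K.D i := fun z hz => by
      rw [K.basicOpen_el hh i] at hz
      exact ⟨hhW z (GrTilde.mem_basicOpen_mul.mp hz).2, (GrTilde.mem_basicOpen_mul.mp hz).1⟩
    have h0 := congrArg (mres F hle) (hτ i)
    simp only [InvExt.mres_mres, Ample.mres_smul'] at h0
    refine Eq.trans h0.symm ?_
    simp [mres]
  choose N hN using key
  have := K.fin
  have := Fintype.ofFinite K.ι
  let T : ℕ := ∑ i, N i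
  have hT : h ^ T • a = 0 := by
    refine Subtype.ext ?_
    rw [Submodule.coe_smul, Submodule.coe_zero, K.mem_piece G ha,
      K.smul_sgl (SetLike.pow_mem_graded T hh)]
    have h0 : K.pmul (h ^ T) (SetLike.pow_mem_graded T hh) (K.co F q a.1) = 0 := funext fun i => by
      have hp : ∀ t : ℕ, K.el (h ^ t) (SetLike.pow_mem_graded t hh) i (le_refl (K.D i)) =
          K.el h hh i (le_refl (K.D i)) ^ t := fun t => ev_ext fun z => by
        rw [K.ev_el, Ample.ProjTwist.ev_pow, K.ev_el, Localization.mk_pow]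
        congr 1
        exact Subtype.ext (by simp [smul_eq_mul, pow_mul, mul_comm t l])
      show K.el (h ^ T) _ i _ • K.co F q a.1 i = 0
      obtain ⟨d, hd⟩ := Nat.exists_eq_add_of_le (Finset.single_le_sum (f := N) (fun _ _ => Nat.zero_le _) (Finset.mem_univ i))
      rw [hp, show T = d + N i by rw [add_comm]; exact hd, pow_add, mul_smul, hN i, smul_zero]
    rw [h0]
    exact K.sgl_zero _
  refine LocalizedModule.mk_eq.mpr ⟨⟨h ^ T, fun hm => hyl (y.1.isPrime.mem_of_pow_mem T hm)⟩, ?_⟩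
  simp only [one_smul, Submonoid.smul_def, smul_zero]
  exact hT

theorem isIso_toF (hG : Covers G) : IsIso (toF G) := by
  rw [Scheme.Modules.Hom.isIso_iff_isIso_app]
  intro V
  rw [ConcreteCategory.isIso_iff_bijective]
  refine ⟨fun σ σ' h => injective_valFun G V h, fun τ => ?_⟩
  choose W hW hy q a ha s hs nin hval using hG V τ
  let σl : ∀ y : V, Γ(tl G, W y) := fun y => fracM (a y) (s y) (ha y) (hs y) (nin y) (Or.inl (by simp))
  have hl : ∀ y : V, valFun G (W y) (σl y) = mres F (hW y) τ := fun y =>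
    valFun_eq G fun z => ⟨W y, le_rfl, z.2, q y, a y, ha y, s y, hs y, nin y,
      fun z' => evM_fracM _ _ _ _ _ _ _, by rw [InvExt.mres_mres]; exact hval y⟩
  obtain ⟨σ, hσ, -⟩ := TopCat.Sheaf.existsUnique_gluing' ⟨(tl G).presheaf, (tl G).isSheaf⟩ W V
    (fun y => homOfLE (hW y)) (fun z hz => Opens.mem_iSup.mpr ⟨⟨z, hz⟩, hy _⟩) σl fun y y' => by
      refine injective_valFun G _ ?_
      show (toF G).app _ (mres (tl G) inf_le_left (σl y)) = (toF G).app _ (mres (tl G) inf_le_right (σl y'))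
      rw [← InvExt.mres_app, ← InvExt.mres_app, toF_app, toF_app, hl, hl, InvExt.mres_mres, InvExt.mres_mres]
  refine ⟨σ, Ample.meq_of_cover F W hW (fun z hz => Opens.mem_iSup.mpr ⟨⟨z, hz⟩, hy _⟩) fun y => ?_⟩
  show mres F (hW y) ((toF G).app V σ) = mres F (hW y) τ
  rw [InvExt.mres_app, toF_app, show mres (tl G) (hW y) σ = σl y from hσ y, hl]

end Cov

end GrothLib.GrRep
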